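/-
Faithfulness of an action from orders, orbits of a point stabilizer on cosets, and simplicity
from generation by elements of a prime order.
-/
import Cfsg.Agent.Lib.Spor.TC.Cosets
import Cfsg.Agent.Lib.Spor.TC.Steps

set_option autoImplicit false

namespace CfsgLib.Spor.Held

open CfsgLib.Spor.TC MulAction

theorem rho_injective {A : Act} {rels : List PowRel} (h : A.Valid rels) {Ls : List Level}
    (hLs : A.levelsOK Ls [] = true)
    (hcard : Nat.card (Pres A.k rels) ≠ 0 ∧ Nat.card (Pres A.k rels) ≤ levelsProd Ls) :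
    Function.Injective h.rho := by
  haveI : Finite (Pres A.k rels) := Nat.finite_of_card_ne_zero hcard.1
  have h2 : levelsProd Ls ≤ Nat.card h.rho.range :=
    card_ge_of_levels A h Ls [] _ hLs fun _ _ y _ _ => ⟨_, h.rho_letters y⟩
  have h3 : Function.Bijective h.rho.rangeRestrict :=
    h.rho.rangeRestrict_surjective.bijective_of_nat_card_le (hcard.2.trans h2)
  exact fun u v e => h3.1 (Subtype.ext e)

variable {G : Type*} [Group G] {H : Subgroup G} {α : Type*} [MulAction G α] {r : ℕ}

/-- One coset in each suborbit. -/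
theorem exists_coset_reps [Finite α] (S : Suborbits G H α r) :
    ∃ q : Fin r → G ⧸ H, (∀ i, (orbit H (q i)).ncard = S.size i) ∧
      ∀ i j, orbit H (q i) = orbit H (q j) → i = j := by
  choose g hg using fun i => S.trans (S.rep i)
  let φ : G ⧸ H → α := fun q => Quotient.liftOn' q (fun g => g • S.a) fun x y hxy => by
    rw [QuotientGroup.leftRel_apply, ← S.mem_iff, mul_smul, inv_smul_eq_iff] at hxy
    exact hxy.symm
  have hφ : Function.Injective φ := by
    intro p q
    induction p using QuotientGroup.induction_on with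
    | H x => induction q using QuotientGroup.induction_on with
      | H y =>
        intro h
        rw [QuotientGroup.eq, ← S.mem_iff, mul_smul, inv_smul_eq_iff]
        exact (h : x • S.a = y • S.a).symm
  have himg : ∀ i, φ '' orbit H (g i : G ⧸ H) = orbit H (S.rep i) := by
    intro i
    ext x
    constructor
    · rintro ⟨_, ⟨h, rfl⟩, rfl⟩
      exact ⟨h, by show (h : G) • S.rep i = ((h : G) * g i) • S.a; rw [mul_smul, hg]⟩
    · rintro ⟨h, rfl⟩
      exact ⟨_, ⟨h, rfl⟩, by show ((h : G) * g i) • S.a = (h : G) • S.rep i; rw [mul_smul, hg]⟩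
  refine ⟨fun i => g i, fun i => ?_, fun i j hij => ?_⟩
  · rw [← S.orbit_size i, ← himg, Set.ncard_image_of_injective _ hφ]
  · refine S.eq_of_mem (mem_orbit_self (S.rep i)) ?_
    rw [← himg j, ← show orbit H (g i : G ⧸ H) = orbit H (g j : G ⧸ H) from hij, himg i]
    exact mem_orbit_self _

/-- The suborbits of an isomorphic group. -/
theorem exists_map_reps [Finite α] (S : Suborbits G H α r) {G' : Type*} [Group G'] (e : G ≃* G')
    (H' : Subgroup G') (hH' : H.map e.toMonoidHom = H') :
    H'.index = Nat.card α ∧ ∃ q : Fin r → G' ⧸ H', (∀ i, (orbit H' (q i)).ncard = S.size i) ∧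
      ∀ i j, orbit H' (q i) = orbit H' (q j) → i = j := by
  subst hH'
  letI : MulAction G' α := MulAction.compHom α e.symm.toMonoidHom
  have hsmul : ∀ (y : G') (x : α), y • x = e.symm y • x := fun _ _ => rfl
  have hmem : ∀ y : G', y ∈ H.map e.toMonoidHom ↔ e.symm y ∈ H := fun y => Subgroup.mem_map_equiv
  let S' : Suborbits G' (H.map e.toMonoidHom) α r :=
    { a := S.a
      stab := by
        ext y
        rw [mem_stabilizer_iff, hsmul, hmem]
        exact S.mem_iff _
      trans := fun x => by
        obtain ⟨g, hg⟩ := S.trans x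
        exact ⟨e g, by rw [hsmul, e.symm_apply_apply, hg]⟩
      rep := S.rep
      size := S.size
      orbit_size := fun i => by
        rw [← S.orbit_size i]
        congr 1
        ext x
        constructor
        · rintro ⟨⟨y, hy⟩, rfl⟩
          exact ⟨⟨_, (hmem y).1 hy⟩, rfl⟩
        · rintro ⟨⟨h, hh⟩, rfl⟩
          exact ⟨⟨e h, ⟨h, hh, rfl⟩⟩, by show e.symm (e h) • S.rep i = h • S.rep i; rw [e.symm_apply_apply]⟩
      cover := fun x => by
        obtain ⟨i, ⟨h, hh⟩, rfl⟩ := S.cover x
        exact ⟨i, ⟨⟨e h, ⟨h, hh, rfl⟩⟩, by show e.symm (e h) • S.rep i = h • S.rep i; rw [e.symm_apply_apply]⟩⟩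
      sum_size := S.sum_size }
  exact ⟨S'.index_eq, exists_coset_reps S'⟩

/-- A primitive group whose degree takes up a whole Sylow subgroup and which is generated, as a normal
subgroup, by an element of that prime order is simple. -/
theorem isSimpleGroup_of_prime_element [Finite G] [Finite α] [Nontrivial G] (S : Suborbits G H α r)
    {i₀ : Fin r} (hi0 : (i₀ : ℕ) = 0) (hrep : S.rep i₀ = S.a) (hsum : NoBlockSum S.size (Nat.card α))
    (hfaith : ∀ g : G, (∀ x : α, g • x = x) → g = 1) {p : ℕ} (hp : p.Prime)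
    (hdiv : ∃ m, Nat.card G = Nat.card α * m ∧ ¬ p ∣ m) (w : G) (hw : w ^ p = 1)
    (hgen : ∀ K : Subgroup G, K.Normal → w ∈ K → K = ⊤) : IsSimpleGroup G := by
  refine { eq_bot_or_eq_top_of_normal := fun N hN => ?_ }
  haveI := hN
  rcases S.maximal hi0 hrep hsum (le_sup_left : H ≤ H ⊔ N) with e | e
  · refine Or.inl ((Subgroup.eq_bot_iff_forall _).2 fun n hn => hfaith n fun x => ?_)
    obtain ⟨g, rfl⟩ := S.trans x
    have h1 : g⁻¹ * n * g ∈ H := e ▸ Subgroup.mem_sup_right (hN.conj_mem' n hn g)
    have := (S.mem_iff _).2 h1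
    rwa [mul_smul, mul_smul, inv_smul_eq_iff] at this
  refine Or.inr (hgen N hN ?_)
  -- the index of N divides the order of H
  have hHN : H.relIndex N = H.index := by
    have h1 : N.relIndex H = N.index := by
      rw [← Subgroup.relIndex_sup_right (H := H) (K := N), e, Subgroup.relIndex_top_right]
    have h2 := Subgroup.relIndex_mul_index (inf_le_right : H ⊓ N ≤ N)
    have h3 := Subgroup.relIndex_mul_index (inf_le_left : H ⊓ N ≤ H)
    rw [Subgroup.inf_relIndex_right] at h2
    rw [Subgroup.inf_relIndex_left, h1, ← h2, mul_comm] at h3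
    exact (Nat.eq_of_mul_eq_mul_right (Nat.pos_of_ne_zero N.index_ne_zero_of_finite) h3).symm
  have hn : Nat.card α ∣ Nat.card N := by
    rw [← S.index_eq, ← hHN]
    exact Subgroup.relIndex_dvd_card H N
  obtain ⟨m, hm, hpm⟩ := hdiv
  obtain ⟨t, ht⟩ := hn
  have hidx : N.index ∣ m := by
    have h := N.card_mul_index
    rw [hm, ht, mul_assoc] at h
    have hpos : 0 < Nat.card α := by
      rcases Nat.eq_zero_or_pos (Nat.card α) with h0 | h0
      · rw [h0, zero_mul] at hm
        exact absurd hm Nat.card_pos.ne'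
      · exact h0
    exact ⟨t, by rw [mul_comm N.index]; exact (Nat.eq_of_mul_eq_mul_left hpos h).symm⟩
  have h1 : orderOf (QuotientGroup.mk' N w) ∣ p :=
    orderOf_dvd_of_pow_eq_one (by rw [← map_pow, hw, map_one])
  rcases (Nat.dvd_prime hp).1 h1 with h2 | h2
  · exact (QuotientGroup.eq_one_iff w).1 (orderOf_eq_one_iff.1 h2)
  · refine absurd ?_ hpm
    rw [← h2]
    exact (orderOf_dvd_natCard (QuotientGroup.mk' N w)).trans hidx

end CfsgLib.Spor.Held
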