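/-
Relators of the presented Held group, of some subgroups, and the relator derived among `a, b, c, d, e`.
-/
import Cfsg.Agent.Lib.Spor.TC.Word

namespace CfsgLib.Spor.Held

open CfsgLib.Spor.TC

/-- A word in `c, d, e` that is trivial in the group. -/
def wordZ : List ℕ := [2, 3, 2, 3, 4, 3, 2, 3, 2, 3, 4, 3, 2, 3, 4]

/-- Relators on all seven generators. -/
def relsG : List PowRel := [
  ([0, 1], 4),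
  ([0, 2], 2),
  ([0, 3], 2),
  ([0, 4], 2),
  ([0, 5], 2),
  ([0, 6], 2),
  ([1, 2], 3),
  ([1, 3], 2),
  ([1, 4], 2),
  ([1, 5], 2),
  ([1, 6], 2),
  ([2, 3], 10),
  ([2, 4], 2),
  ([2, 5], 2),
  ([2, 6], 2),
  ([3, 4], 3),
  ([3, 5], 3),
  ([3, 6], 3),
  ([4, 5], 2),
  ([4, 6], 2),
  ([5, 6], 4),
  ([4, 6, 5, 6, 5], 1),
  ([4, 2, 1, 0, 2, 1, 0, 2, 1, 0], 1),
  ([0, 3, 2, 3, 2, 3, 2, 3, 2, 3, 2], 1),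
  ([2, 3, 5, 6], 4)]

/-- Relators on `a, b, c, d, e`. -/
def relsX : List PowRel := [
  ([0, 1], 4),
  ([0, 2], 2),
  ([0, 3], 2),
  ([0, 4], 2),
  ([1, 2], 3),
  ([1, 3], 2),
  ([1, 4], 2),
  ([2, 3], 10),
  ([2, 4], 2),
  ([3, 4], 3),
  ([4, 2, 1, 0, 2, 1, 0, 2, 1, 0], 1),
  ([0, 3, 2, 3, 2, 3, 2, 3, 2, 3, 2], 1)]

/-- Relators on `a, b, c, e`. -/
def relsQ : List PowRel := [
  ([0, 1], 4),
  ([0, 2], 2),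
  ([0, 3], 2),
  ([1, 2], 3),
  ([1, 3], 2),
  ([2, 3], 2),
  ([3, 2, 1, 0, 2, 1, 0, 2, 1, 0], 1)]

/-- Relators on all seven generators, with the derived one. -/
def relsZ : List PowRel := [
  ([0, 1], 4),
  ([0, 2], 2),
  ([0, 3], 2),
  ([0, 4], 2),
  ([0, 5], 2),
  ([0, 6], 2),
  ([1, 2], 3),
  ([1, 3], 2),
  ([1, 4], 2),
  ([1, 5], 2),
  ([1, 6], 2),
  ([2, 3], 10),
  ([2, 4], 2),
  ([2, 5], 2),
  ([2, 6], 2),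
  ([3, 4], 3),
  ([3, 5], 3),
  ([3, 6], 3),
  ([4, 5], 2),
  ([4, 6], 2),
  ([5, 6], 4),
  ([4, 6, 5, 6, 5], 1),
  ([4, 2, 1, 0, 2, 1, 0, 2, 1, 0], 1),
  ([0, 3, 2, 3, 2, 3, 2, 3, 2, 3, 2], 1),
  ([2, 3, 5, 6], 4),
  ([2, 3, 2, 3, 4, 3, 2, 3, 2, 3, 4, 3, 2, 3, 4], 1)]

/-- Relators on `a, c, d, e, f, g`. -/
def relsK : List PowRel := [
  ([0, 1], 2),
  ([0, 2], 2),
  ([0, 3], 2),
  ([0, 4], 2),
  ([0, 5], 2),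
  ([1, 2], 10),
  ([1, 3], 2),
  ([1, 4], 2),
  ([1, 5], 2),
  ([2, 3], 3),
  ([2, 4], 3),
  ([2, 5], 3),
  ([3, 4], 2),
  ([3, 5], 2),
  ([4, 5], 4),
  ([3, 5, 4, 5, 4], 1),
  ([0, 2, 1, 2, 1, 2, 1, 2, 1, 2, 1], 1),
  ([1, 2, 4, 5], 4),
  ([1, 2, 1, 2, 3, 2, 1, 2, 1, 2, 3, 2, 1, 2, 3], 1)]

/-- Relators on `a, d, e, f, g`. -/
def relsA : List PowRel := [
  ([0, 1], 2),
  ([0, 2], 2),
  ([0, 3], 2),
  ([0, 4], 2),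
  ([1, 2], 3),
  ([1, 3], 3),
  ([1, 4], 3),
  ([2, 3], 2),
  ([2, 4], 2),
  ([3, 4], 4),
  ([2, 4, 3, 4, 3], 1)]

/-- Relators on `d, e, f, g`. -/
def relsD : List PowRel := [
  ([0, 1], 3),
  ([0, 2], 3),
  ([0, 3], 3),
  ([1, 2], 2),
  ([1, 3], 2),
  ([2, 3], 4),
  ([1, 3, 2, 3, 2], 1)]

end CfsgLib.Spor.Held
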