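/-
The presented Held group, and the numbering of its generators.
-/
import Cfsg.Agent.Lib.Spor.TC.Cox
import Cfsg.Agent.Lib.Spor.Held.Rels
import Cfsg.Prelude.Def_Spor_He

namespace CfsgLib.Spor.Held

open CfsgLib.Spor.TC

/-- The number of a generator. -/
def num : Cfsg.Spor.He.Gen → ℕ
  | .a => 0 | .b => 1 | .c => 2 | .d => 3 | .e => 4 | .f => 5 | .g => 6

/-- The generator of a number. -/
def nam : ℕ → Cfsg.Spor.He.Gen
  | 0 => .a | 1 => .b | 2 => .c | 3 => .d | 4 => .e | 5 => .f | _ => .g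

/-- The further relators as words. -/
def more : List PowRel :=
  [([4, 6, 5, 6, 5], 1), ([4, 2, 1, 0, 2, 1, 0, 2, 1, 0], 1),
    ([0, 3, 2, 3, 2, 3, 2, 3, 2, 3, 2], 1), ([2, 3, 5, 6], 4)]

theorem inv_word {G : Type*} [Group G] (g : ℕ → G) (hg : ∀ x, g x * g x = 1) :
    (∀ x y, ((g x * g y) ^ 2)⁻¹ = g y * g x * (g y * g x)) ∧
    (∀ x y z, ((g x * g y * g z) ^ 3)⁻¹ = g z * g y * g x * (g z * g y * g x) * (g z * g y * g x)) ∧
    ∀ x y, ((g x * g y) ^ 5)⁻¹ = g y * g x * (g y * g x) * (g y * g x) * (g y * g x) * (g y * g x) := by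
  have hi : ∀ x, (g x)⁻¹ = g x := fun x => inv_eq_of_mul_eq_one_right (hg x)
  refine ⟨fun x y => ?_, fun x y z => ?_, fun x y => ?_⟩ <;>
    simp only [pow_succ, pow_zero, one_mul, mul_inv_rev, hi, mul_assoc]

/-- The numbered presentation. -/
def coxData : CoxData Cfsg.Spor.He.edges Cfsg.Spor.He.extra where
  k := 7
  num := num
  nam := nam
  num_lt a := by cases a <;> decide
  nam_num a := by cases a <;> rfl
  num_nam x hx := by interval_cases x <;> rfl
  nodes a := by cases a <;> decide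
  more := more
  more_iff g f hg hf := by
    obtain ⟨h2, h3, h5⟩ := inv_word g hg
    simp only [more, Cfsg.Spor.He.extra, List.forall_mem_cons, List.not_mem_nil, false_implies, implies_true,
      and_true, map_mul, map_inv, map_pow, hf, num, ev, List.map_cons, List.map_nil, List.prod_cons, List.prod_nil,
      mul_one, pow_one, h2, h3, h5]
    simp only [mul_assoc]

theorem rels_eq : coxData.rels = relsG := by decide +kernel

theorem exists_equiv_gen : ∃ e : Pres 7 relsG ≃* Cfsg.Spor.He,
    ∀ a, e (presGen 7 relsG (num a)) = PresentedGroup.of a := by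
  rw [← rels_eq]
  exact ⟨coxData.equiv, coxData.equiv_gen⟩

end CfsgLib.Spor.Held
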