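/-
Order and simplicity of the presented Held group, from its action on `2058` cosets.
-/
import Cfsg.Agent.Lib.Spor.Held.Extra
import Cfsg.Agent.Lib.Spor.Held.CX.All
import Cfsg.Agent.Lib.Spor.Held.CQ.All
import Cfsg.Agent.Lib.Spor.Held.CK.All
import Cfsg.Agent.Lib.Spor.Held.CA.All
import Cfsg.Agent.Lib.Spor.Held.CD.All
import Cfsg.Agent.Lib.Spor.Held.CG.All
import Cfsg.Agent.Lib.Spor.Held.Perfect.All
import Cfsg.Agent.Lib.Spor.Held.Seven.All
import Cfsg.Agent.Lib.Spor.Held.ActX.All
import Cfsg.Agent.Lib.Spor.Held.ActH.All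

namespace CfsgLib.Spor.Held

open CfsgLib.Spor.TC MulAction

theorem card_x : Nat.card (Pres 5 relsX) ≠ 0 ∧ Nat.card (Pres 5 relsX) ≤ 15120 :=
  CX.cosetCert.card_le (rels' := relsQ) (l := 4) (by decide) (by decide +kernel) CQ.cosetCert.card_le_bot

/-- The derived relator, in the subgroup on `a, b, c, d, e`. -/
theorem wordZ_x : ev (presGen 5 relsX) wordZ = 1 := by
  have hcard : Nat.card (Pres ActX.act.k relsX) ≠ 0 ∧ Nat.card (Pres ActX.act.k relsX) ≤ levelsProd ActX.bases :=
    ⟨card_x.1, card_x.2.trans (le_of_eq (by decide +kernel : (15120 : ℕ) = levelsProd ActX.bases))⟩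
  have hok : ActX.act.sameOK wordZ [] = true := by decide +kernel
  have h := rho_injective ActX.valid ActX.bases_ok hcard (ActX.valid.rho_eq hok)
  exact h

theorem wordZ_g : ev (presGen 7 relsG) wordZ = 1 := by
  have hrel : ∀ r ∈ relsX, (r.1.map fun x => [0, 1, 2, 3, 4].getD x 7, r.2) ∈ relsG := by decide +kernel
  have h := congrArg (subHom (k := 7) (rels := relsG) (rels' := relsX) [0, 1, 2, 3, 4] hrel) wordZ_x
  rw [map_one, map_ev] at h
  refine (ev_congr fun x hx => ?_).trans h
  rw [subHom]
  show presGen 7 relsG x = presHom _ (presGen 5 relsX x)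
  rw [presHom_gen, subGen]
  congr 1
  exact ((by decide : ∀ y ∈ wordZ, [0, 1, 2, 3, 4].getD y 7 = y) x hx).symm

theorem card_le_held : Nat.card (Pres 7 relsG) ≠ 0 ∧ Nat.card (Pres 7 relsG) ≤ 4030387200 := by
  have hA := CA.cosetCert.card_le (rels' := relsD) (l := 4) (by decide) (by decide +kernel) CD.cosetCert.card_le_bot
  have hK := CK.cosetCert.card_le (rels' := relsA) (l := 5) (by decide) (by decide +kernel) hA
  have hG := CG.cosetCert.card_le (rels' := relsK) (l := 6) (by decide) (by decide +kernel) hK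
  have hs : Sat 7 relsZ (presGen 7 relsG) := by
    refine ⟨(sat_presGen _ _).sq, (sat_presGen _ _).out, fun r hr => ?_⟩
    have hsub : ∀ r ∈ relsZ, r ∈ relsG ∨ r = (wordZ, 1) := by decide +kernel
    rcases hsub r hr with h | rfl
    · exact (sat_presGen _ _).rel r h
    · rw [pow_one]; exact wordZ_g
  have hsurj := presHom_surjective hs (closure_presGen 7 relsG)
  haveI := Nat.finite_of_card_ne_zero hG.1
  haveI := Finite.of_surjective _ hsurj
  exact ⟨Nat.card_pos.ne', (Nat.card_le_card_of_surjective _ hsurj).trans (hG.2.trans (by decide +kernel))⟩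

theorem card_held : Nat.card (Pres ActH.act.k relsG) = 4030387200 :=
  le_antisymm card_le_held.2
    (le_trans (le_of_eq (by decide +kernel : (4030387200 : ℕ) = levelsProd ActH.bases))
      (card_pres_ge ActH.act ActH.valid ActH.bases_ok card_le_held.1))

/-- The letters of generators of the point stabilizer. -/
def gensH : List ℕ := [0, 2, 3, 4, 5, 7, 8]

/-- `S₄(4):2` in the numbered group. -/
def subH : Subgroup (Pres ActH.act.k relsG) :=
  Subgroup.closure (ActH.act.letters relsG '' {x | x ∈ gensH})

theorem letter_def (i : ℕ) (w : List ℕ) (hw : ActH.act.defs[i]? = some w) (hlt : ∀ y ∈ w, y < 7) :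
    ActH.act.letters relsG (7 + i) = ev (presGen ActH.act.k relsG) w := by
  refine (extend_def ActH.act.defs (presGen ActH.act.k relsG) ActH.valid.below i w hw).trans ?_
  exact ev_congr fun x hx => extend_of_lt _ _ (show x < ActH.act.k from hlt x hx)

theorem subH_index_le : subH.index ≠ 0 ∧ subH.index ≤ 2058 := by
  refine Cert.index_le_pres CH.steps_ok CH.rows_ok CH.row_zero (by decide) rfl (by decide +kernel) _ ?_
  have hmem : ∀ x ∈ gensH, ActH.act.letters relsG x ∈ subH := fun x hx => Subgroup.subset_closure ⟨x, hx, rfl⟩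
  have hsingle : ∀ x, x < 7 → x ∈ gensH → ev (presGen ActH.act.k relsG) [x] ∈ subH := fun x hx hm => by
    rw [show ev (presGen ActH.act.k relsG) [x] = presGen ActH.act.k relsG x by simp [ev]]
    exact Act.letters_of_lt (A := ActH.act) (rels := relsG) (show x < ActH.act.k from hx) ▸ hmem x hm
  intro w hwm
  simp only [CH.cert, CH.subs, List.mem_cons, List.not_mem_nil, or_false] at hwm
  rcases hwm with rfl | rfl | rfl | rfl | rfl | rfl | rfl
  all_goals first
    | exact hsingle _ (by decide) (by decide)
    | exact letter_def 0 _ rfl (by decide) ▸ hmem 7 (by decide)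
    | exact letter_def 1 _ rfl (by decide) ▸ hmem 8 (by decide)

/-- The action on the `2058` cosets. -/
@[reducible] noncomputable def actionH : MulAction (Pres ActH.act.k relsG) (Fin ActH.act.n) := ActH.valid.action

attribute [local instance] actionH

theorem exists_suborbitsH :
    ∃ S : Suborbits (Pres ActH.act.k relsG) subH (Fin ActH.act.n) 5, (S.a : ℕ) = 0 ∧
      (∀ i : Fin 5, S.size i = [1, 1360, 425, 136, 136].get i) ∧ S.rep 0 = S.a := by
  obtain ⟨S, h0, hsz, hrep⟩ := exists_suborbits (g := ActH.act.letters relsG)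
    (fun x hx c => ActH.valid.action_apply hx c) ActH.top ActH.top_ok rfl rfl gensH subH rfl ActH.parts
    ActH.parts_ok subH_index_le
  exact ⟨S, h0, fun i => (hsz ⟨i, i.2⟩).trans (by fin_cases i <;> rfl), hrep ⟨0, by decide⟩ rfl⟩

theorem rho_injective_held : Function.Injective ActH.valid.rho :=
  rho_injective ActH.valid ActH.bases_ok
    ⟨card_le_held.1, card_le_held.2.trans (le_of_eq (by decide +kernel : (4030387200 : ℕ) = levelsProd ActH.bases))⟩

/-- An element of order seven. -/
def wordS : List ℕ := [1, 5, 3, 6, 1]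

set_option maxHeartbeats 4000000 in
theorem sameOK_seven : ActH.act.sameOK (powWord wordS 7) [] = true := by decide +kernel

theorem simple_held : IsSimpleGroup (Pres ActH.act.k relsG) := by
  obtain ⟨S, -, hsz, hrep⟩ := exists_suborbitsH
  haveI : Finite (Pres ActH.act.k relsG) := Nat.finite_of_card_ne_zero (ne_of_eq_of_ne card_held (by decide))
  haveI : Nontrivial (Pres ActH.act.k relsG) :=
    Finite.one_lt_card_iff_nontrivial.1 (lt_of_lt_of_eq (by decide) card_held.symm)
  refine isSimpleGroup_of_prime_element S (i₀ := 0) rfl hrep ?_ (fun u hu => rho_injective_held ?_)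
    (p := 7) (by decide) ⟨1958400, ?_, by norm_num⟩ (ev (presGen ActH.act.k relsG) wordS) ?_ fun K hK hwK => ?_
  · rw [Nat.card_fin, show S.size = fun i => [1, 1360, 425, 136, 136].get i from funext hsz]
    decide +kernel
  · rw [map_one]
    exact Equiv.ext hu
  · rw [card_held, Nat.card_fin]
    rfl
  · rw [← ev_powWord]
    refine rho_injective_held ?_
    rw [ActH.valid.rho_eq sameOK_seven]
    simp [ev]
  · refine eq_top_of_collapse Seven.cosetCert K hK fun p hp => ?_
    rw [List.mem_singleton.1 hp]
    exact K.pow_mem hwK _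

end CfsgLib.Spor.Held
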