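/-
The presented Held group is simple of the order of `He`; the cosets of `S₄(4):2`.
-/
import Cfsg.Agent.Lib.Spor.Held.Order
import Cfsg.Agent.Lib.Spor.Held.Cox
import Cfsg.Prelude.Def_Sporadic

namespace CfsgLib.Spor.Held

open CfsgLib.Spor.TC

theorem isHe : Cfsg.IsHe Cfsg.Spor.He := by
  obtain ⟨e, -⟩ := exists_equiv_gen
  haveI : IsSimpleGroup (Pres 7 relsG) := simple_held
  exact ⟨e.symm.isSimpleGroup, by rw [← Nat.card_congr e.toEquiv]; exact card_held⟩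

theorem map_subH (e : Pres ActH.act.k relsG ≃* Cfsg.Spor.He)
    (he : ∀ a, e (presGen ActH.act.k relsG (num a)) = PresentedGroup.of a) :
    subH.map e.toMonoidHom =
      (Subgroup.closure ({Cfsg.Spor.He.a, Cfsg.Spor.He.c, Cfsg.Spor.He.d, Cfsg.Spor.He.e, Cfsg.Spor.He.f,
        (Cfsg.Spor.He.a * Cfsg.Spor.He.b) ^ 2,
        (Cfsg.Spor.He.b * Cfsg.Spor.He.c * Cfsg.Spor.He.d * Cfsg.Spor.He.e) ^ 7} :
          Set (FreeGroup Cfsg.Spor.He.Gen))).map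
        (PresentedGroup.mk (Cfsg.Spor.coxRelators Cfsg.Spor.He.edges ∪ {r | r ∈ Cfsg.Spor.He.extra})) := by
  have hgen : ∀ x, x < 7 → e (ActH.act.letters relsG x) = PresentedGroup.of (nam x) := fun x hx => by
    have h := he (nam x)
    rw [show num (nam x) = x from coxData.num_nam x hx] at h
    rw [Act.letters_of_lt (show x < ActH.act.k from hx)]
    exact h
  have h7 : e (ActH.act.letters relsG 7) = PresentedGroup.mk _ ((Cfsg.Spor.He.a * Cfsg.Spor.He.b) ^ 2) := by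
    rw [letter_def 0 (powWord [0, 1] 2) rfl (by decide), ev_powWord, map_pow, map_pow]
    congr 1
    refine (map_ev e.toMonoidHom _ _).trans ?_
    show ev (fun x => e (presGen ActH.act.k relsG x)) [0, 1] = _
    simp only [ev, List.map_cons, List.map_nil, List.prod_cons, List.prod_nil, mul_one, map_mul]
    exact congrArg₂ (· * ·) (he .a) (he .b)
  have h8 : e (ActH.act.letters relsG 8) = PresentedGroup.mk _
      ((Cfsg.Spor.He.b * Cfsg.Spor.He.c * Cfsg.Spor.He.d * Cfsg.Spor.He.e) ^ 7) := by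
    rw [letter_def 1 (powWord [1, 2, 3, 4] 7) rfl (by decide), ev_powWord, map_pow, map_pow]
    congr 1
    refine (map_ev e.toMonoidHom _ _).trans ?_
    show ev (fun x => e (presGen ActH.act.k relsG x)) [1, 2, 3, 4] = _
    simp only [ev, List.map_cons, List.map_nil, List.prod_cons, List.prod_nil, mul_one, map_mul, mul_assoc]
    exact congrArg₂ (· * ·) (he .b) (congrArg₂ (· * ·) (he .c) (congrArg₂ (· * ·) (he .d) (he .e)))
  rw [subH]
  erw [MonoidHom.map_closure, MonoidHom.map_closure]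
  congr 1
  rw [Set.image_image]
  have hS : {x | x ∈ gensH} = ({0, 2, 3, 4, 5, 7, 8} : Set ℕ) := by
    ext x; simp [gensH]
  rw [hS]
  simp only [Set.image_insert_eq, Set.image_singleton, MulEquiv.coe_toMonoidHom]
  rw [h7, h8, hgen 0 (by decide), hgen 2 (by decide), hgen 3 (by decide), hgen 4 (by decide), hgen 5 (by decide)]
  rfl

theorem subH_orbits :
    ((Subgroup.closure ({Cfsg.Spor.He.a, Cfsg.Spor.He.c, Cfsg.Spor.He.d, Cfsg.Spor.He.e, Cfsg.Spor.He.f,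
        (Cfsg.Spor.He.a * Cfsg.Spor.He.b) ^ 2,
        (Cfsg.Spor.He.b * Cfsg.Spor.He.c * Cfsg.Spor.He.d * Cfsg.Spor.He.e) ^ 7} :
          Set (FreeGroup Cfsg.Spor.He.Gen))).map
        (PresentedGroup.mk (Cfsg.Spor.coxRelators Cfsg.Spor.He.edges ∪ {r | r ∈ Cfsg.Spor.He.extra}))).index
      = 2058 ∧
    ∃ q : Fin 5 → Cfsg.Spor.He ⧸
      ((Subgroup.closure ({Cfsg.Spor.He.a, Cfsg.Spor.He.c, Cfsg.Spor.He.d, Cfsg.Spor.He.e, Cfsg.Spor.He.f,
        (Cfsg.Spor.He.a * Cfsg.Spor.He.b) ^ 2,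
        (Cfsg.Spor.He.b * Cfsg.Spor.He.c * Cfsg.Spor.He.d * Cfsg.Spor.He.e) ^ 7} :
          Set (FreeGroup Cfsg.Spor.He.Gen))).map
        (PresentedGroup.mk (Cfsg.Spor.coxRelators Cfsg.Spor.He.edges ∪ {r | r ∈ Cfsg.Spor.He.extra}))),
      (∀ i : Fin 5, (MulAction.orbit ((Subgroup.closure ({Cfsg.Spor.He.a, Cfsg.Spor.He.c, Cfsg.Spor.He.d,
        Cfsg.Spor.He.e, Cfsg.Spor.He.f, (Cfsg.Spor.He.a * Cfsg.Spor.He.b) ^ 2,
        (Cfsg.Spor.He.b * Cfsg.Spor.He.c * Cfsg.Spor.He.d * Cfsg.Spor.He.e) ^ 7} :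
          Set (FreeGroup Cfsg.Spor.He.Gen))).map
        (PresentedGroup.mk (Cfsg.Spor.coxRelators Cfsg.Spor.He.edges ∪ {r | r ∈ Cfsg.Spor.He.extra}))) (q i)).ncard
          = [1, 1360, 425, 136, 136].get i) ∧
      MulAction.orbit ((Subgroup.closure ({Cfsg.Spor.He.a, Cfsg.Spor.He.c, Cfsg.Spor.He.d,
        Cfsg.Spor.He.e, Cfsg.Spor.He.f, (Cfsg.Spor.He.a * Cfsg.Spor.He.b) ^ 2,
        (Cfsg.Spor.He.b * Cfsg.Spor.He.c * Cfsg.Spor.He.d * Cfsg.Spor.He.e) ^ 7} :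
          Set (FreeGroup Cfsg.Spor.He.Gen))).map
        (PresentedGroup.mk (Cfsg.Spor.coxRelators Cfsg.Spor.He.edges ∪ {r | r ∈ Cfsg.Spor.He.extra}))) (q 3) ≠
      MulAction.orbit ((Subgroup.closure ({Cfsg.Spor.He.a, Cfsg.Spor.He.c, Cfsg.Spor.He.d,
        Cfsg.Spor.He.e, Cfsg.Spor.He.f, (Cfsg.Spor.He.a * Cfsg.Spor.He.b) ^ 2,
        (Cfsg.Spor.He.b * Cfsg.Spor.He.c * Cfsg.Spor.He.d * Cfsg.Spor.He.e) ^ 7} :
          Set (FreeGroup Cfsg.Spor.He.Gen))).map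
        (PresentedGroup.mk (Cfsg.Spor.coxRelators Cfsg.Spor.He.edges ∪ {r | r ∈ Cfsg.Spor.He.extra}))) (q 4) := by
  obtain ⟨e, he⟩ := exists_equiv_gen
  letI := actionH
  obtain ⟨S, -, hsz, -⟩ := exists_suborbitsH
  obtain ⟨hidx, q, hq, hinj⟩ := exists_map_reps S e _ (map_subH e he)
  exact ⟨hidx.trans (by rw [Nat.card_fin]; rfl), q, fun i => (hq i).trans (hsz i),
    fun h => absurd (hinj 3 4 h) (by decide)⟩

end CfsgLib.Spor.Held
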